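import Groth.Agent.H6KO.Transitivity

/-!
# What a locally split conormal sequence says about the ideals at a point
-/

set_option autoImplicit false
set_option linter.style.haveILetI false
set_option backward.isDefEq.respectTransparency false
set_option backward.isDefEq.respectTransparency.types false
set_option maxHeartbeats 1000000

universe u

open CategoryTheory CategoryTheory.Limits AlgebraicGeometry TopologicalSpace Opposite

noncomputable section

namespace Groth.Agent.H6KO.SplitCancel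

open Groth.Agent Groth.Agent.Synt29 OmegaStalk ConormalStalk ConormalSeq ConormalBC PPSheaf.Conormal3

/-- The kernel of the unit of extension along a surjection. -/
theorem mem_of_unit_eq_zero {A B : Type u} [CommRing A] [CommRing B] (f : A →+* B) (hf : Function.Surjective f)
    (M : ModuleCat.{u} A) (m : M)
    (h : ((ModuleCat.extendRestrictScalarsAdj f).unit.app M).hom m = 0) :
    m ∈ (RingHom.ker f) • (⊤ : Submodule A M) := by
  letI := f.toAlgebra
  let e : B ≃ₗ[A] A ⧸ RingHom.ker f :=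
    (Ideal.quotientKerAlgEquivOfSurjective (f := Algebra.ofId A B) hf).symm.toLinearEquiv
  have h' : (1 : B) ⊗ₜ[A] m = 0 := h
  have h1 := congrArg ((TensorProduct.quotTensorEquivQuotSMul M (RingHom.ker f)).toLinearMap ∘ₗ
    TensorProduct.map e.toLinearMap LinearMap.id) h'
  rw [map_zero, LinearMap.comp_apply, TensorProduct.map_tmul] at h1
  have e1 : e (1 : B) = Ideal.Quotient.mk (RingHom.ker f) 1 := by
    show ((Ideal.quotientKerAlgEquivOfSurjective (f := Algebra.ofId A B) hf).symm) 1 = _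
    rw [map_one, map_one]
  simp only [LinearEquiv.coe_coe, e1, LinearMap.id_apply, TensorProduct.quotTensorEquivQuotSMul_mk_tmul,
    one_smul] at h1
  exact (Submodule.Quotient.mk_eq_zero _).1 h1

variable {X Y Z : Scheme.{u}}

theorem exists_retraction_stalk {M N : Z.Modules} (a : M ⟶ N) (U : Z.Opens)
    (ρ : (Scheme.Modules.restrictFunctor U.ι).obj N ⟶ (Scheme.Modules.restrictFunctor U.ι).obj M)
    (hρ : (Scheme.Modules.restrictFunctor U.ι).map a ≫ ρ = 𝟙 _) (z : Z) (hz : z ∈ U) :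
    IsSplitMono ((DerSch.stalkFunctor Z z).map a) := by
  let η := Scheme.Modules.restrictFunctorIsoPullback U.ι
  let T := KFlatLib.stalkPullbackIso U.ι ⟨z, hz⟩
  let G := ModuleCat.extendScalars (U.ι.stalkMap ⟨z, hz⟩).hom
  let adj := ModuleCat.extendRestrictScalarsAdj (U.ι.stalkMap ⟨z, hz⟩).hom
  haveI : (ModuleCat.restrictScalars (U.ι.stalkMap ⟨z, hz⟩).hom).IsEquivalence :=
    ModuleCat.restrictScalars_isEquivalence_of_ringEquiv
      (RingEquiv.ofBijective _ (ConcreteCategory.bijective_of_isIso (U.ι.stalkMap ⟨z, hz⟩)))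
  haveI : G.IsEquivalence := adj.isEquivalence_left_of_isEquivalence_right
  haveI hP : IsSplitMono ((Scheme.Modules.pullback U.ι).map a) :=
    ⟨⟨η.inv.app N ≫ ρ ≫ η.hom.app M, by
      rw [← Category.assoc, η.inv.naturality, Category.assoc, reassoc_of% hρ, Iso.inv_hom_id_app]⟩⟩
  haveI : IsSplitMono ((Scheme.Modules.pullback U.ι ⋙ DerSch.stalkFunctor (U : Scheme.{u}) ⟨z, hz⟩).map a) :=
    inferInstanceAs (IsSplitMono ((DerSch.stalkFunctor (U : Scheme.{u}) ⟨z, hz⟩).map _))
  obtain ⟨⟨r, hr⟩⟩ := (this : IsSplitMono _)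
  refine ⟨⟨G.preimage (T.inv.app N ≫ r ≫ T.hom.app M), G.map_injective ?_⟩⟩
  have hn := T.inv.naturality a
  rw [Functor.map_comp, Functor.map_preimage, CategoryTheory.Functor.map_id]
  have hn' : G.map ((DerSch.stalkFunctor Z z).map a) ≫ T.inv.app N =
      T.inv.app M ≫ (Scheme.Modules.pullback U.ι ⋙ DerSch.stalkFunctor (U : Scheme.{u}) ⟨z, hz⟩).map a := hn
  refine (Category.assoc _ _ _).symm.trans ?_
  rw [hn', Category.assoc]
  refine (congrArg (T.inv.app M ≫ ·)
    ((Category.assoc _ _ _).symm.trans ((congrArg (· ≫ T.hom.app M) hr).trans (Category.id_comp _)))).trans ?_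
  exact Iso.inv_hom_id_app T M

theorem rep_unique (j : Y ⟶ X) [QuasiCompact j] {y : X} {m : St (I j) y} {a a' : X.presheaf.stalk y}
    (h : Rep j y m a) (h' : Rep j y m a') : a = a' := by
  obtain ⟨U, hy, k, hk, rfl⟩ := h
  obtain ⟨U', hy', k', hk', rfl⟩ := h'
  obtain ⟨W, hyW, e, e', he⟩ := TopCat.Presheaf.germ_eq (C := AddCommGrpCat.{u}) (I j).presheaf y hy hy' k k'
    (hk.trans hk'.symm)
  rw [← X.presheaf.germ_res_apply e _ hyW, ← X.presheaf.germ_res_apply e' _ hyW,
    show e = homOfLE (leOfHom e) from rfl, show e' = homOfLE (leOfHom e') from rfl]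
  erw [← OmegaLib.idealSect_map, ← OmegaLib.idealSect_map]
  exact congrArg (fun t => X.presheaf.germ W y hyW (OmegaSh.idealSect j.ker W t)) he

theorem rep_mem_mul (j : Y ⟶ X) [IsImmersion j] [QuasiCompact j] {y : Y} (J : Ideal (X.presheaf.stalk (j y)))
    {m : St (I j) (j y)} (hm : m ∈ J • (⊤ : Submodule (X.presheaf.stalk (j y)) (St (I j) (j y))))
    {r : X.presheaf.stalk (j y)} (hr : Rep j (j y) m r) : r ∈ J * RingHom.ker (j.stalkMap y).hom := by
  obtain ⟨r', hr', hmem⟩ : ∃ r', Rep j (j y) m r' ∧ r' ∈ J * RingHom.ker (j.stalkMap y).hom := by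
    refine Submodule.smul_induction_on hm (fun c hc t _ => ?_) ?_
    · obtain ⟨s, hs⟩ := rep_exists j _ t
      exact ⟨c * s, rep_smul j hs c, Ideal.mul_mem_mul hc (RingHom.mem_ker.2 (rep_mem j hs))⟩
    · rintro x x' ⟨r, hr, h⟩ ⟨r', hr', h'⟩
      exact ⟨r + r', rep_add j hr hr', add_mem h h'⟩
  rwa [rep_unique j hr hr']

variable (i : Z ⟶ Y) (j : Y ⟶ X) [IsImmersion i] [IsImmersion j] [QuasiCompact i] [QuasiCompact j]

/-- At a point where the first map of the conormal sequence is a split injection, an element of the ideal of the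
middle lying in `m` times the big ideal lies in `m` times the small one. -/
theorem mem_of_split (a : (Scheme.Modules.pullback i).obj (Omega.conormal j) ⟶ Omega.conormal (i ≫ j))
    (ha : OmegaSh.IsConormalMap (i ≫ j) j (𝟙 X) i a) (z : Z) [hs : IsSplitMono ((DerSch.stalkFunctor Z z).map a)]
    (f : X.presheaf.stalk (j (i z))) (hf : f ∈ RingHom.ker (j.stalkMap (i z)).hom)
    (hfJ : f ∈ IsLocalRing.maximalIdeal _ * RingHom.ker ((i ≫ j).stalkMap z).hom) :
    f ∈ IsLocalRing.maximalIdeal _ * RingHom.ker (j.stalkMap (i z)).hom := by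
  have w₁ : i ≫ j = (i ≫ j) ≫ 𝟙 X := (Category.comp_id _).symm
  let A := X.presheaf.stalk (j (i z))
  let 𝔪 : Ideal A := IsLocalRing.maximalIdeal A
  let ψ : A →+* Z.presheaf.stalk z := ((i ≫ j).stalkMap z).hom
  let S : Submodule (Z.presheaf.stalk z) (St (Omega.conormal (i ≫ j)) z) := (𝔪.map ψ) • ⊤
  let T : Submodule (Z.presheaf.stalk z) (St ((Scheme.Modules.pullback i).obj (Omega.conormal j)) z) := (𝔪.map ψ) • ⊤
  obtain ⟨m, hm⟩ := exists_rep j (x := i z) (a := f) hf
  obtain ⟨n, hn, hv⟩ := map_el (i ≫ j) j (𝟙 X) i w₁ z a ha m f hm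
  rw [δ₁_eq j i z f w₁] at hn
  let Q := (KFlatLib.stalkPullbackIso (i ≫ j) z).app (I (i ≫ j))
  let q : St (I (i ≫ j)) ((i ≫ j) z) →+ St (Omega.conormal (i ≫ j)) z :=
    AddMonoidHom.mk' (fun t => Q.inv (unit1 (i ≫ j) z t)) fun s t =>
      (congrArg Q.inv (map_add ((ModuleCat.extendRestrictScalarsAdj ((i ≫ j).stalkMap z).hom).unit.app _).hom s t)).trans
        (map_add Q.inv.hom _ _)
  -- the image lies in `m` times the module
  have him : q n ∈ S := by
    obtain ⟨n', hn', hS⟩ : ∃ n', Rep (i ≫ j) ((i ≫ j) z) n' f ∧ q n' ∈ S := by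
      refine Submodule.mul_induction_on (show f ∈ 𝔪 * (RingHom.ker ψ : Ideal A) from hfJ) (fun c hc g hg => ?_) ?_
      · obtain ⟨p, hp⟩ := exists_rep (i ≫ j) (x := z) (a := g) hg
        refine ⟨(show X.presheaf.stalk ((i ≫ j) z) from c) • p, rep_smul (i ≫ j) hp (show X.presheaf.stalk ((i ≫ j) z) from c), ?_⟩
        let c' : X.presheaf.stalk ((i ≫ j) z) := c
        show Q.inv (unit1 (i ≫ j) z (c' • p)) ∈ S
        rw [show Q.inv (unit1 (i ≫ j) z (c' • p)) = ψ c • q p from
          (congrArg Q.inv (unit1_smul (i ≫ j) z c' p)).trans (map_smul Q.inv.hom _ _)]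
        exact Submodule.smul_mem_smul (Ideal.mem_map_of_mem ψ hc) trivial
      · rintro _ _ ⟨p, hp, hp'⟩ ⟨p', hp1, hp1'⟩
        exact ⟨p + p', rep_add (i ≫ j) hp hp1, by rw [map_add]; exact add_mem hp' hp1'⟩
    rwa [rep_inj (i ≫ j) hn hn']
  have hmem : el j i z m ∈ T := by
    obtain ⟨⟨r, hr⟩⟩ := hs
    have e1 : (DerSch.stalkFunctor Z z).map a (el j i z m) = q n :=
      (ConcreteCategory.bijective_of_isIso Q.hom).1 (hv.trans (Iso.inv_hom_id_apply Q _).symm)
    have e2 : el j i z m = r.hom (q n) := by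
      rw [← e1]
      exact (congr($hr (el j i z m))).symm
    rw [e2]
    have : r.hom (q n) ∈ Submodule.map r.hom S := ⟨q n, him, rfl⟩
    rw [Submodule.map_smul''] at this
    exact (Submodule.smul_mono le_rfl le_top) this
  -- write it with representatives
  obtain ⟨m₁, r₁, hm₁, hr₁, he₁⟩ : ∃ m₁ r₁, Rep j (j (i z)) m₁ r₁ ∧ r₁ ∈ 𝔪 * RingHom.ker (j.stalkMap (i z)).hom ∧
      el j i z m₁ = el j i z m := by
    refine Submodule.smul_induction_on hmem (fun b hb t _ => ?_) ?_
    · obtain ⟨c, hc, rfl⟩ := (Ideal.mem_map_iff_of_surjective ψ ((i ≫ j).stalkMap_surjective z)).1 hb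
      obtain ⟨m', rfl⟩ := exists_el (i ≫ j) j i z (i.stalkMap_surjective z) t
      obtain ⟨r', hr'⟩ := rep_exists j _ m'
      refine ⟨(show A from c) • m', (show A from c) * r', rep_smul j hr' (show A from c),
        Ideal.mul_mem_mul hc (RingHom.mem_ker.2 (rep_mem j hr')), ?_⟩
      rw [el_smul]
      exact congrArg (· • el j i z m') (congr($(Scheme.Hom.stalkMap_comp i j z) c)).symm
    · rintro x y ⟨m', r', h', hr', rfl⟩ ⟨m'', r'', h'', hr'', rfl⟩
      exact ⟨m' + m'', r' + r'', rep_add j h' h'', add_mem hr' hr'', el_add _ _ _ _ _⟩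
  -- the kernel of `el`
  obtain ⟨d, hd⟩ := rep_exists j _ (m - m₁)
  have hf' : f = d + r₁ := by
    have h := rep_add j hd hm₁
    rw [sub_add_cancel] at h
    exact rep_unique j hm h
  rw [hf']
  refine add_mem ?_ hr₁
  have h0 : el j i z (m - m₁) = 0 := by
    have h := el_add j i z (m - m₁) m₁
    rw [sub_add_cancel, he₁] at h
    exact left_eq_add.1 (h.trans (add_comm _ _))
  let P := (KFlatLib.stalkPullbackIso i z).app (Omega.conormal j)
  let Pj := (KFlatLib.stalkPullbackIso j (i z)).app (I j)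
  have h1 : ((ModuleCat.extendRestrictScalarsAdj (i.stalkMap z).hom).unit.app _).hom
      (Pj.inv (unit1 j (i z) (m - m₁))) = 0 :=
    (ConcreteCategory.bijective_of_isIso P.inv).1 (h0.trans (map_zero P.inv.hom).symm)
  have h2 := mem_of_unit_eq_zero _ (i.stalkMap_surjective z) _ _ h1
  obtain ⟨m₂, r₂, hm₂, hr₂, he₂⟩ : ∃ m₂ r₂, Rep j (j (i z)) m₂ r₂ ∧
      r₂ ∈ 𝔪 * RingHom.ker (j.stalkMap (i z)).hom ∧ unit1 j (i z) m₂ = unit1 j (i z) (m - m₁) := by
    have h2' : unit1 j (i z) (m - m₁) ∈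
        (RingHom.ker (i.stalkMap z).hom) • (⊤ : Submodule (Y.presheaf.stalk (i z)) _) := by
      have := Submodule.mem_map_of_mem (f := Pj.hom.hom) h2
      rw [Submodule.map_smul''] at this
      rw [show Pj.hom.hom (Pj.inv (unit1 j (i z) (m - m₁))) = unit1 j (i z) (m - m₁) from Iso.inv_hom_id_apply _ _] at this
      exact (Submodule.smul_mono le_rfl le_top) this
    refine Submodule.smul_induction_on h2' (fun b hb t _ => ?_) ?_
    · obtain ⟨c, rfl⟩ := j.stalkMap_surjective (i z) b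
      obtain ⟨m', rfl⟩ := unit1_surjective j (i z) t
      obtain ⟨r', hr'⟩ := rep_exists j _ m'
      refine ⟨c • m', c * r', rep_smul j hr' c, Ideal.mul_mem_mul ?_ (RingHom.mem_ker.2 (rep_mem j hr')), ?_⟩
      · refine (IsLocalRing.mem_maximalIdeal _).2 fun hu => ?_
        exact (RingHom.mem_ker.1 hb ▸ (hu.map (j.stalkMap (i z)).hom).map (i.stalkMap z).hom).ne_zero rfl
      · exact unit1_smul j (i z) c m'
    · rintro x y ⟨m', r', h', hr', rfl⟩ ⟨m'', r'', h'', hr'', rfl⟩
      exact ⟨m' + m'', r' + r'', rep_add j h' h'', add_mem hr' hr'',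
        map_add ((ModuleCat.extendRestrictScalarsAdj (j.stalkMap (i z)).hom).unit.app _).hom _ _⟩
  obtain ⟨d', hd'⟩ := rep_exists j _ (m - m₁ - m₂)
  have h3 := mem_of_unit_eq_zero _ (j.stalkMap_surjective (i z)) _ (m - m₁ - m₂) (by
    show unit1 j (i z) (m - m₁ - m₂) = 0
    refine (map_sub ((ModuleCat.extendRestrictScalarsAdj (j.stalkMap (i z)).hom).unit.app _).hom _ _).trans ?_
    exact sub_eq_zero.2 he₂.symm)
  have hd2 : d = d' + r₂ := by
    have h := rep_add j hd' hm₂
    rw [sub_add_cancel] at h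
    exact rep_unique j hd h
  rw [hd2]
  refine add_mem (Ideal.mul_mono_left ?_ (rep_mem_mul j _ h3 hd')) hr₂
  exact IsLocalRing.le_maximalIdeal (RingHom.ker_ne_top _)

end Groth.Agent.H6KO.SplitCancel
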