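import Groth.Agent.H6KO.SplitCancel.SeqAlg
import Groth.Agent.H6KO.SplitCancel.SplitStalk
import Groth.Agent.RegKinds.Imm

/-!
# Regularity of the first of two immersions from the composite and a split conormal sequence
-/

set_option autoImplicit false
set_option linter.style.haveILetI false
set_option backward.isDefEq.respectTransparency false
set_option backward.isDefEq.respectTransparency.types false
set_option maxHeartbeats 1000000

universe u

open CategoryTheory CategoryTheory.Limits AlgebraicGeometry TopologicalSpace Opposite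
open Groth.Agent.KRegLib Groth.Agent.RegKinds

noncomputable section

namespace Groth.Agent.H6KO.SplitCancel

open Groth.Agent

variable {X Y Z : Scheme.{u}}

/-- The conclusion of the split conormal sequence at a point. -/
def SplitAt (i : Z ⟶ Y) (j : Y ⟶ X) (z : Z) : Prop :=
  ∀ f : X.presheaf.stalk (j (i z)), f ∈ RingHom.ker (j.stalkMap (i z)).hom →
    f ∈ IsLocalRing.maximalIdeal _ * RingHom.ker ((i ≫ j).stalkMap z).hom →
    f ∈ IsLocalRing.maximalIdeal _ * RingHom.ker (j.stalkMap (i z)).hom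

/-- A family which generates minimally. -/
def Minimal {B : Type u} [CommRing B] [IsLocalRing B] {r : ℕ} (F : Fin r → B) : Prop :=
  ∀ c : Fin r → B, ∑ n, c n * F n ∈ IsLocalRing.maximalIdeal B * Ideal.span (Set.range F) →
    ∀ n, c n ∈ IsLocalRing.maximalIdeal B

theorem minimal_of_quasi {B : Type u} [CommRing B] [IsLocalRing B] {r : ℕ} (F : Fin r → B)
    (hF : CAlgX.IsQuasiRegular F) (hne : Ideal.span (Set.range F) ≤ IsLocalRing.maximalIdeal B) : Minimal F := by
  classical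
  intro c hc n
  rw [mul_comm, ← smul_eq_mul] at hc
  obtain ⟨e, he, hce⟩ : ∃ e : Fin r → B, (∀ n, e n ∈ IsLocalRing.maximalIdeal B) ∧ ∑ n, e n * F n = ∑ n, c n * F n := by
    rw [smul_eq_mul, mul_comm] at hc
    refine Submodule.mul_induction_on hc (fun m hm y hy => ?_) ?_
    · obtain ⟨d, rfl⟩ := Ideal.mem_span_range_iff_exists_fun.1 hy
      exact ⟨fun n => m * d n, fun n => Ideal.mul_mem_right _ _ hm, by
        rw [Finset.mul_sum]; exact Finset.sum_congr rfl fun n _ => by ring⟩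
    · rintro _ _ ⟨e, he, rfl⟩ ⟨e', he', rfl⟩
      exact ⟨e + e', fun n => add_mem (he n) (he' n), by simp [add_mul, Finset.sum_add_distrib]⟩
  have h1 := hF 1 (∑ a, MvPolynomial.C (c a - e a) * MvPolynomial.X a)
    (MvPolynomial.IsHomogeneous.sum _ _ _ fun a _ => (MvPolynomial.isHomogeneous_X _ a).C_mul _)
    (by simp [sub_mul, Finset.sum_sub_distrib, hce]) (Finsupp.single n 1)
  simp only [MvPolynomial.coeff_sum, MvPolynomial.coeff_C_mul, MvPolynomial.coeff_X',
    Finsupp.single_left_inj one_ne_zero, mul_ite, mul_one, mul_zero, Finset.sum_ite_eq', Finset.mem_univ, if_true] at h1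
  have := add_mem (hne h1) (he n)
  rwa [sub_add_cancel] at this

theorem exists_minimal {B : Type u} [CommRing B] [IsLocalRing B] {N : ℕ} (F₀ : Fin N → B) :
    ∃ (r : ℕ) (σ : Fin r → Fin N), Ideal.span (Set.range (F₀ ∘ σ)) = Ideal.span (Set.range F₀) ∧
      Minimal (F₀ ∘ σ) := by
  classical
  have h : ∃ r, ∃ σ : Fin r → Fin N, Ideal.span (Set.range (F₀ ∘ σ)) = Ideal.span (Set.range F₀) := ⟨N, id, rfl⟩
  obtain ⟨σ, hσ⟩ := Nat.find_spec h
  refine ⟨Nat.find h, σ, hσ, fun c hc n => ?_⟩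
  by_contra hn
  let F := F₀ ∘ σ
  let J := Ideal.span (Set.range F)
  obtain ⟨d, hd, hdc⟩ : ∃ d : Fin (Nat.find h) → B, (∀ n, d n ∈ IsLocalRing.maximalIdeal B) ∧
      ∑ n, d n * F n = ∑ n, c n * F n := by
    refine Submodule.mul_induction_on hc (fun m hm y hy => ?_) ?_
    · obtain ⟨d, rfl⟩ := Ideal.mem_span_range_iff_exists_fun.1 hy
      exact ⟨fun n => m * d n, fun n => Ideal.mul_mem_right _ _ hm, by
        rw [Finset.mul_sum]; exact Finset.sum_congr rfl fun n _ => by ring⟩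
    · rintro _ _ ⟨e, he, rfl⟩ ⟨e', he', rfl⟩
      exact ⟨e + e', fun n => add_mem (he n) (he' n), by simp [add_mul, Finset.sum_add_distrib]⟩
  have hu : IsUnit (c n - d n) := by
    by_contra hu
    exact hn (by simpa using add_mem ((IsLocalRing.mem_maximalIdeal _).2 hu) (hd n))
  obtain ⟨m, hm⟩ : ∃ m, Nat.find h = m + 1 := ⟨Nat.find h - 1, by have := n.isLt; omega⟩
  let σ' : Fin m → Fin N := σ ∘ Fin.cast hm.symm ∘ Fin.succAbove (Fin.cast hm n)
  refine Nat.find_min h (show m < Nat.find h by omega) ⟨σ', le_antisymm (Ideal.span_mono ?_) ?_⟩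
  · rintro _ ⟨k, rfl⟩
    exact ⟨_, rfl⟩
  rw [← hσ, Ideal.span_le]
  rintro _ ⟨k, rfl⟩
  have hmem : ∀ k, k ≠ n → F k ∈ Ideal.span (Set.range (F₀ ∘ σ')) := by
    intro k hk
    obtain ⟨l, hl⟩ := Fin.exists_succAbove_eq (show Fin.cast hm k ≠ Fin.cast hm n by simpa [Fin.ext_iff] using hk)
    exact Ideal.subset_span ⟨l, by simp [σ', F, hl]⟩
  by_cases hk : k = n
  · subst hk
    have h0 : ∑ l, (c l - d l) * F l = 0 := by simp [sub_mul, Finset.sum_sub_distrib, hdc]
    rw [← Finset.add_sum_erase _ _ (Finset.mem_univ k), add_eq_zero_iff_eq_neg] at h0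
    show F k ∈ _
    refine (Ideal.unit_mul_mem_iff_mem _ hu).1 ?_
    rw [h0]
    exact neg_mem (sum_mem fun l hl => Ideal.mul_mem_left _ _ (hmem l (Finset.ne_of_mem_erase hl)))
  · exact hmem k hk

/-- The local statement. -/
theorem kindAt_of_minimal {k : RegImm.Kind} (hk : k ≠ .regular) (i : Z ⟶ Y) (j : Y ⟶ X) (z : Z) (hsp : SplitAt i j z)
    {D : X.Opens} (hD : IsAffineOpen D) (hxD : j (i z) ∈ D) [IsClosedImmersion (j ∣_ D)]
    [IsClosedImmersion ((i ≫ j) ∣_ D)] {N : ℕ} (G : Fin N → Γ(X, D)) (hG : SeqP k G)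
    (hGker : RingHom.ker ((i ≫ j).app D).hom = Ideal.span (Set.range G))
    {r : ℕ} (F : Fin r → Γ(X, D)) (hFker : RingHom.ker (j.app D).hom = Ideal.span (Set.range F))
    (hmin : Minimal fun n => X.presheaf.germ D (j (i z)) hxD (F n)) (hFk : k = .koszul → SeqP k F) :
    KindAt k i z ∧ (k ≠ .koszul → ∃ (D' : X.Opens) (_ : IsAffineOpen D'), j (i z) ∈ D' ∧ IsClosedImmersion (j ∣_ D') ∧
      IsClosedImmersion ((i ≫ j) ∣_ D') ∧ ∃ (r t : ℕ) (F' : Fin r → Γ(X, D')) (a : Fin t → Γ(X, D')),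
        SeqP k (Fin.append F' a) ∧ RingHom.ker (j.app D').hom = Ideal.span (Set.range F') ∧
        ∀ l, Fin.append F' a l ∈ RingHom.ker ((i ≫ j).app D').hom) := by
  classical
  let A := Γ(X, D)
  let B := X.presheaf.stalk (j (i z))
  let γ : A →+* B := (X.presheaf.germ D (j (i z)) hxD).hom
  let 𝔪 : Ideal B := IsLocalRing.maximalIdeal B
  let p : Ideal A := 𝔪.comap γ
  haveI : p.IsPrime := Ideal.comap_isPrime γ 𝔪
  let q₀ : A →+* Γ(Y, j ⁻¹ᵁ D) := (j.app D).hom
  have hcomp : ((i ≫ j).app D).hom = (i.app (j ⁻¹ᵁ D)).hom.comp q₀ := rfl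
  have hFG : ∀ n, F n ∈ Ideal.span (Set.range G) := fun n => by
    rw [← hGker, hcomp, ← RingHom.comap_ker, Ideal.mem_comap,
      show q₀ (F n) = 0 from RingHom.mem_ker.1 (hFker ▸ Ideal.subset_span ⟨n, rfl⟩)]
    exact zero_mem _
  choose M hM using fun n => Ideal.mem_span_range_iff_exists_fun.1 (hFG n)
  have hI : RingHom.ker (j.stalkMap (i z)).hom = Ideal.span (Set.range fun n => γ (F n)) := by
    rw [ker_stalkMap_of_restrict j hD (i z) hxD, hFker, Ideal.map_span, ← Set.range_comp]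
    rfl
  have hJ : RingHom.ker ((i ≫ j).stalkMap z).hom = (Ideal.span (Set.range G)).map γ := by
    rw [ker_stalkMap_of_restrict (i ≫ j) hD z hxD, hGker]
    rfl
  obtain ⟨t, S, hrt, hdet⟩ := exists_completion p M fun c hc n => by
    refine hmin (fun n => γ (c n)) ?_ n
    rw [← hI]
    refine hsp _ ?_ ?_
    · rw [hI]
      exact sum_mem fun n _ => Ideal.mul_mem_left _ _ (Ideal.subset_span ⟨n, rfl⟩)
    · rw [hJ]
      have e : ∑ n, γ (c n) * γ (F n) = ∑ l, γ (∑ n, c n * M n l) * γ (G l) := by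
        simp only [← map_mul, ← map_sum]
        refine congrArg γ ?_
        simp only [← hM, Finset.mul_sum, Finset.sum_mul]
        rw [Finset.sum_comm]
        exact Finset.sum_congr rfl fun l _ => Finset.sum_congr rfl fun n _ => by ring
      rw [show ∑ n, γ (c n) * X.presheaf.germ D (j (i z)) hxD (F n) = _ from e]
      exact sum_mem fun l _ => Ideal.mul_mem_mul (hc l) (Ideal.mem_map_of_mem γ (Ideal.subset_span ⟨l, rfl⟩))
  subst hrt
  -- the ordering of the completed family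
  obtain ⟨e, hord⟩ : ∃ e : Fin (r + t) ≃ Fin r ⊕ Fin t,
      (k = .koszul → ∀ (C : Type u) (F : Fin r → C) (a : Fin t → C), appendSeq F t a = Sum.elim F a ∘ e) ∧
      (k ≠ .koszul → ∀ (C : Type u) (F : Fin r → C) (a : Fin t → C), Fin.append F a = Sum.elim F a ∘ e) := by
    by_cases hkk : k = .koszul
    · obtain ⟨e, he⟩ := exists_equiv_appendSeq.{u} (r := r) t
      exact ⟨e, fun _ => he, fun h => absurd hkk h⟩
    · refine ⟨finSumFinEquiv.symm, fun h => absurd h hkk, fun _ C F a => funext fun l => ?_⟩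
      obtain ⟨l, rfl⟩ := finSumFinEquiv.surjective l
      rcases l with l | l <;> simp
  let C : Matrix (Fin (r + t)) (Fin (r + t)) A := Matrix.of fun l => Sum.elim M (fun a => Pi.single (S a) 1) (e l)
  let s : A := C.det
  have hs : s ∉ p := hdet e
  let D' := X.basicOpen s
  have hxD' : j (i z) ∈ D' := by
    rw [Scheme.mem_basicOpen X s _ hxD]
    by_contra hu
    exact hs ((IsLocalRing.mem_maximalIdeal _).2 hu)
  obtain ⟨hjD, hjs⟩ := Synt29.surjective_app_of_isClosedImmersion_restrict j D hD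
  obtain ⟨hijD, hijs⟩ := Synt29.surjective_app_of_isClosedImmersion_restrict (i ≫ j) D hD
  obtain ⟨hs₁, hU, hker₁⟩ := app_basicOpen_props j hD hjD hjs s
  obtain ⟨-, -, hker₂⟩ := app_basicOpen_props (i ≫ j) hD hijD hijs s
  letI : Algebra A Γ(X, D') := (X.presheaf.map (homOfLE (X.basicOpen_le s)).op).hom.toAlgebra
  haveI : IsLocalization.Away s Γ(X, D') := hD.isLocalization_basicOpen s
  haveI : Module.Flat A Γ(X, D') := IsLocalization.flat _ (Submonoid.powers s)
  let ι := algebraMap A Γ(X, D')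
  have hH : SeqP k fun l => ι (Sum.elim F (G ∘ S) (e l)) := by
    refine seqP_of_det (seqP_map (S := Γ(X, D')) hG) (C.map ι) ?_ fun l => ?_
    · rw [← RingHom.mapMatrix_apply, ← RingHom.map_det]
      exact IsLocalization.Away.algebraMap_isUnit s
    · have : Sum.elim F (G ∘ S) (e l) = ∑ l', C l l' * G l' := by
        rcases h : e l with a | a
        · simp [C, h, hM]
        · simp [C, h, Pi.single_apply]
      rw [this, map_sum]
      exact Finset.sum_congr rfl fun l' _ => map_mul ι _ _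
  have hspan : Ideal.span (Set.range fun l => ι (Sum.elim F (G ∘ S) (e l))) = Ideal.span (Set.range fun l => ι (G l)) := by
    refine span_range_eq_of_det (C.map ι) ?_ fun l => ?_
    · rw [← RingHom.mapMatrix_apply, ← RingHom.map_det]
      exact IsLocalization.Away.algebraMap_isUnit s
    · have : Sum.elim F (G ∘ S) (e l) = ∑ l', C l l' * G l' := by
        rcases h : e l with a | a
        · simp [C, h, hM]
        · simp [C, h, Pi.single_apply]
      rw [this, map_sum]
      exact Finset.sum_congr rfl fun l' _ => map_mul ι _ _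
  let q : Γ(X, D') →+* Γ(Y, j ⁻¹ᵁ D') := (j.app D').hom
  let F' : Fin r → Γ(X, D') := fun n => ι (F n)
  let a : Fin t → Γ(X, D') := fun n => ι (G (S n))
  have hq : RingHom.ker q = Ideal.span (Set.range F') := by
    refine hker₁.trans ?_
    rw [hFker, Ideal.map_span, ← Set.range_comp]
    rfl
  have hfam : (fun l => ι (Sum.elim F (G ∘ S) (e l))) = Sum.elim F' a ∘ e := funext fun l => by
    rcases h : e l with x | x <;> simp [F', a, h]
  have hcancel : SeqP k fun n => q (a n) := by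
    by_cases hkk : k = .koszul
    · subst hkk
      rw [hfam, ← hord.1 rfl] at hH
      exact isExact_of_appendSeq (seqP_map (S := Γ(X, D')) (hFk rfl)) hs₁ hq a hH
    · rw [hfam, ← hord.2 hkk] at hH
      refine seqP_cancel F' a q ?_ hs₁ hq hH
      cases k <;> simp_all
  refine ⟨⟨j ⁻¹ᵁ D', hU, hxD', ?_, t, _, hcancel, ?_⟩, fun hkk =>
    ⟨D', hD.basicOpen s, hxD', isClosedImmersion_restrict_of_le j (X.basicOpen_le s),
      isClosedImmersion_restrict_of_le (i ≫ j) (X.basicOpen_le s), r, t, F', a, ?_, hq, fun l => ?_⟩⟩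
  · haveI : IsClosedImmersion (j ∣_ D') := isClosedImmersion_restrict_of_le j (X.basicOpen_le s)
    haveI h1 : IsClosedImmersion ((i ≫ j) ∣_ D') := isClosedImmersion_restrict_of_le (i ≫ j) (X.basicOpen_le s)
    rw [morphismRestrict_comp] at h1
    exact IsClosedImmersion.of_comp (i ∣_ j ⁻¹ᵁ D') (j ∣_ D')
  · have hk2 : RingHom.ker ((i ≫ j).app D').hom = Ideal.span (Set.range (Sum.elim F' a ∘ e)) := by
      rw [← hfam, hspan, hker₂, hGker, Ideal.map_span, ← Set.range_comp]
      rfl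
    have h3 : RingHom.ker (i.app (j ⁻¹ᵁ D')).hom = (RingHom.ker ((i ≫ j).app D').hom).map q := by
      rw [show ((i ≫ j).app D').hom = (i.app (j ⁻¹ᵁ D')).hom.comp q from rfl, ← RingHom.comap_ker,
        Ideal.map_comap_of_surjective q hs₁]
    rw [h3, hk2, e.surjective.range_comp, Set.Sum.elim_range, Ideal.span_union, Ideal.map_sup,
      (Ideal.map_eq_bot_iff_le_ker q).2 hq.ge, bot_sup_eq, Ideal.map_span, ← Set.range_comp]
    rfl
  · rw [hfam, ← hord.2 hkk] at hH
    exact hH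
  · rw [hord.2 hkk, ← hfam, hker₂, hGker, Ideal.map_span, ← Set.range_comp]
    exact hspan.le (Ideal.subset_span ⟨l, rfl⟩)

theorem kindAt_of_split {k : RegImm.Kind} (hk : k ≠ .regular) (i : Z ⟶ Y) (j : Y ⟶ X) [IsImmersion i]
    [IsImmersion j] (hfpj : k ≠ .koszul → LocallyOfFinitePresentation j) (z : Z) (hsp : SplitAt i j z)
    (hj : k = .koszul → RegImm.IsRegularImmersionAt k j (i z)) (hij : RegImm.IsRegularImmersionAt k (i ≫ j) z) :
    KindAt k i z ∧ (k ≠ .koszul → ∃ (D' : X.Opens) (_ : IsAffineOpen D'), j (i z) ∈ D' ∧ IsClosedImmersion (j ∣_ D') ∧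
      IsClosedImmersion ((i ≫ j) ∣_ D') ∧ ∃ (r t : ℕ) (F' : Fin r → Γ(X, D')) (a : Fin t → Γ(X, D')),
        SeqP k (Fin.append F' a) ∧ RingHom.ker (j.app D').hom = Ideal.span (Set.range F') ∧
        ∀ l, Fin.append F' a l ∈ RingHom.ker ((i ≫ j).app D').hom) := by
  obtain ⟨U, hU, hxU, hci, N, G₀, hG₀, hGker₀⟩ := (kindAt_iff hk _ z).1 hij
  have hxU' : j (i z) ∈ U := hxU
  by_cases hkk : k = .koszul
  · obtain ⟨U', hU', hxU₂, hcj, r, F₀, hF₀, hFker₀⟩ := (kindAt_iff hk _ (i z)).1 (hj hkk)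
    obtain ⟨g, g', hgg, hxg⟩ := exists_basicOpen_le_affine_inter hU hU' (j (i z)) ⟨hxU', hxU₂⟩
    haveI : IsClosedImmersion ((i ≫ j) ∣_ X.basicOpen g) := isClosedImmersion_restrict_of_le _ (X.basicOpen_le g)
    haveI : IsClosedImmersion (j ∣_ X.basicOpen g) :=
      isClosedImmersion_restrict_of_le j (hgg.trans_le (X.basicOpen_le g'))
    obtain ⟨G, hG, hGker⟩ := restrict_basicOpen' (i ≫ j) g hG₀ hGker₀ hU
    have key : ∀ O : X.Opens, O = X.basicOpen g' → ∃ F : Fin r → Γ(X, O), SeqP k F ∧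
        RingHom.ker (j.app O).hom = Ideal.span (Set.range F) := by
      rintro O rfl
      exact restrict_basicOpen' j g' hF₀ hFker₀ hU'
    obtain ⟨F, hF, hFker⟩ := key _ hgg
    refine kindAt_of_minimal hk i j z hsp (hU.basicOpen g) hxg G hG hGker F hFker ?_ fun _ => hF
    subst hkk
    letI : Algebra Γ(X, X.basicOpen g) (X.presheaf.stalk (j (i z))) :=
      (X.presheaf.germ _ _ hxg).hom.toAlgebra
    haveI : IsLocalization.AtPrime (X.presheaf.stalk (j (i z))) ((hU.basicOpen g).primeIdealOf ⟨_, hxg⟩).asIdeal :=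
      (hU.basicOpen g).isLocalization_stalk ⟨_, hxg⟩
    haveI : Module.Flat Γ(X, X.basicOpen g) (X.presheaf.stalk (j (i z))) :=
      IsLocalization.flat _ ((hU.basicOpen g).primeIdealOf ⟨_, hxg⟩).asIdeal.primeCompl
    have h1 : CAlgX.IsH1Regular F := (seq_ofFn (k := .h1) (by decide) F).1
      (KRegLib.h1_of_koszul _ ((seq_ofFn (k := .koszul) (by decide) F).2 hF))
    refine minimal_of_quasi _ (S2103.result _ (RegKinds.h1_flat (S := X.presheaf.stalk (j (i z))) h1)) ?_
    refine le_trans ?_ (IsLocalRing.le_maximalIdeal (RingHom.ker_ne_top (j.stalkMap (i z)).hom))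
    rw [ker_stalkMap_of_restrict j (hU.basicOpen g) (i z) hxg, hFker, Ideal.map_span, ← Set.range_comp]
    exact le_rfl
  · obtain ⟨W, hW, hxW, -, hcW⟩ := exists_affine_isClosedImmersion_restrict j (i z) ⊤ trivial
    obtain ⟨g, g', hgg, hxg⟩ := exists_basicOpen_le_affine_inter hU hW (j (i z)) ⟨hxU', hxW⟩
    let D := X.basicOpen g
    have hD : IsAffineOpen D := hU.basicOpen g
    haveI : IsClosedImmersion ((i ≫ j) ∣_ D) := isClosedImmersion_restrict_of_le _ (X.basicOpen_le g)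
    haveI : IsClosedImmersion (j ∣_ D) := isClosedImmersion_restrict_of_le j (hgg.trans_le (X.basicOpen_le g'))
    obtain ⟨G, hG, hGker⟩ := restrict_basicOpen' (i ≫ j) g hG₀ hGker₀ hU
    obtain ⟨hjD, hjs⟩ := Synt29.surjective_app_of_isClosedImmersion_restrict j D hD
    have hfp : (j.app D).hom.FinitePresentation := by
      haveI := hfpj hkk
      rw [Scheme.Hom.app_eq_appLE]
      exact j.finitePresentation_appLE hD hjD le_rfl
    obtain ⟨n, F₀, hF₀⟩ : ∃ (n : ℕ) (F₀ : Fin n → Γ(X, D)), Ideal.span (Set.range F₀) = RingHom.ker (j.app D).hom := by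
      letI := (j.app D).hom.toAlgebra
      haveI : Algebra.FinitePresentation Γ(X, D) Γ(Y, j ⁻¹ᵁ D) := hfp
      exact Submodule.fg_iff_exists_fin_generating_family.1
        (Algebra.FinitePresentation.ker_fG_of_surjective (Algebra.ofId Γ(X, D) Γ(Y, j ⁻¹ᵁ D)) hjs)
    let B := X.presheaf.stalk (j (i z))
    letI : Algebra Γ(X, D) B := (X.presheaf.germ D _ hxg).hom.toAlgebra
    let 𝔭 := (hD.primeIdealOf ⟨_, hxg⟩).asIdeal
    haveI : IsLocalization.AtPrime B 𝔭 := hD.isLocalization_stalk ⟨_, hxg⟩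
    obtain ⟨r, σ, hσ, hmin⟩ := exists_minimal fun l => algebraMap Γ(X, D) B (F₀ l)
    have hloc : ∀ l, ∃ s ∈ 𝔭.primeCompl, s * F₀ l ∈ Ideal.span (Set.range (F₀ ∘ σ)) := fun l => by
      refine (IsLocalization.algebraMap_mem_map_algebraMap_iff 𝔭.primeCompl B _ _).1 ?_
      rw [Ideal.map_span, ← Set.range_comp, ← Function.comp_assoc]
      exact hσ.ge (Ideal.subset_span ⟨l, rfl⟩)
    choose s hs hsl using hloc
    let g₂ := ∏ l, s l
    have hg₂ : g₂ ∈ 𝔭.primeCompl := prod_mem fun l _ => hs l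
    let D' := X.basicOpen g₂
    have hxD' : j (i z) ∈ D' :=
      (X.mem_basicOpen g₂ _ hxg).2 (IsLocalization.map_units B ⟨g₂, hg₂⟩)
    haveI : IsClosedImmersion ((i ≫ j) ∣_ D') := isClosedImmersion_restrict_of_le _ (X.basicOpen_le g₂)
    haveI : IsClosedImmersion (j ∣_ D') := isClosedImmersion_restrict_of_le j (X.basicOpen_le g₂)
    obtain ⟨G', hG', hGker'⟩ := restrict_basicOpen' (i ≫ j) g₂ hG hGker hD
    letI : Algebra Γ(X, D) Γ(X, D') := (X.presheaf.map (homOfLE (X.basicOpen_le g₂)).op).hom.toAlgebra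
    haveI : IsLocalization.Away g₂ Γ(X, D') := hD.isLocalization_basicOpen g₂
    let F : Fin r → Γ(X, D') := fun l => algebraMap Γ(X, D) Γ(X, D') (F₀ (σ l))
    refine kindAt_of_minimal hk i j z hsp (hD.basicOpen g₂) hxD' G' hG' hGker' F ?_ ?_ fun h => absurd h hkk
    · rw [(app_basicOpen_props j hD hjD hjs g₂).2.2, ← hF₀, Ideal.map_span, ← Set.range_comp]
      refine le_antisymm (Ideal.span_le.2 ?_) (Ideal.span_mono ?_)
      · rintro _ ⟨l, rfl⟩
        refine (Ideal.unit_mul_mem_iff_mem _ (IsLocalization.Away.algebraMap_isUnit (S := Γ(X, D')) g₂)).1 ?_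
        show algebraMap Γ(X, D) Γ(X, D') g₂ * algebraMap Γ(X, D) Γ(X, D') (F₀ l) ∈ _
        rw [← map_mul]
        have h1 : g₂ * F₀ l ∈ Ideal.span (Set.range (F₀ ∘ σ)) := by
          rw [show g₂ = (∏ x ∈ Finset.univ.erase l, s x) * s l from (Finset.prod_erase_mul _ _ (Finset.mem_univ l)).symm,
            mul_assoc]
          exact Ideal.mul_mem_left _ _ (hsl l)
        have h2 := Ideal.mem_map_of_mem (algebraMap Γ(X, D) Γ(X, D')) h1
        rw [Ideal.map_span, ← Set.range_comp] at h2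
        exact h2
      · rintro _ ⟨l, rfl⟩
        exact ⟨σ l, rfl⟩
    · have e : (fun n => X.presheaf.germ D' (j (i z)) hxD' (F n)) = (fun l => algebraMap Γ(X, D) B (F₀ l)) ∘ σ :=
        funext fun l => X.presheaf.germ_res_apply (homOfLE (X.basicOpen_le g₂)) _ hxD' (F₀ (σ l))
      rw [e]
      exact hmin

theorem isRegularImmersion_of_split {k : RegImm.Kind} (hk : k ≠ .regular) (i : Z ⟶ Y) (j : Y ⟶ X) [IsImmersion i]
    [IsImmersion j] (hfpj : k ≠ .koszul → LocallyOfFinitePresentation j) (hsp : ∀ z, SplitAt i j z)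
    (hj : k = .koszul → RegImm.IsRegularImmersion k j) (hij : RegImm.IsRegularImmersion k (i ≫ j)) :
    RegImm.IsRegularImmersion k i :=
  ⟨inferInstance, fun z => (kindAt_iff hk i z).2
    (kindAt_of_split hk i j hfpj z (hsp z) (fun h => (hj h).2 (i z)) (hij.2 z)).1⟩

theorem splitAt_of_retraction (i : Z ⟶ Y) (j : Y ⟶ X) [IsImmersion i] [IsImmersion j] [QuasiCompact i] [QuasiCompact j]
    (a : (Scheme.Modules.pullback i).obj (Omega.conormal j) ⟶ Omega.conormal (i ≫ j))
    (ha : OmegaSh.IsConormalMap (i ≫ j) j (𝟙 X) i a) (z : Z) (U : Z.Opens) (hz : z ∈ U)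
    (ρ : (Scheme.Modules.restrictFunctor U.ι).obj (Omega.conormal (i ≫ j)) ⟶
      (Scheme.Modules.restrictFunctor U.ι).obj ((Scheme.Modules.pullback i).obj (Omega.conormal j)))
    (hρ : (Scheme.Modules.restrictFunctor U.ι).map a ≫ ρ = 𝟙 _) : SplitAt i j z := fun f hf hfJ =>
  haveI := exists_retraction_stalk a U ρ hρ z hz
  mem_of_split i j a ha z f hf hfJ

end Groth.Agent.H6KO.SplitCancel
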