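import Groth.Agent.H6KO.SplitCancel.Main
import Groth.Agent.KFlatLib.Scheme.ExtZero

/-!
# Pairs of regular immersions over a locally Noetherian scheme
-/

set_option autoImplicit false
set_option linter.style.haveILetI false
set_option backward.isDefEq.respectTransparency false
set_option backward.isDefEq.respectTransparency.types false
set_option maxHeartbeats 1000000

universe u

open CategoryTheory CategoryTheory.Limits AlgebraicGeometry TopologicalSpace Opposite
open Groth.Agent.KRegLib Groth.Agent.RegKinds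

noncomputable section

namespace Groth.Agent.H6KO.SplitCancel

open Groth.Agent

variable {X Y Z : Scheme.{u}}

theorem isLocallyNoetherian_of_immersion (j : Y ⟶ X) [IsImmersion j] [IsLocallyNoetherian X] :
    IsLocallyNoetherian Y := LocallyOfFiniteType.isLocallyNoetherian j

/-- Regularity of the second map from the completed chart. -/
theorem regularAt_right [IsLocallyNoetherian X] (i : Z ⟶ Y) (j : Y ⟶ X) (z : Z)
    {D : X.Opens} (hD : IsAffineOpen D) (hx : j (i z) ∈ D) [IsClosedImmersion (j ∣_ D)]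
    [IsClosedImmersion ((i ≫ j) ∣_ D)] {r t : ℕ} (F : Fin r → Γ(X, D)) (a : Fin t → Γ(X, D))
    (hH : SeqP .h1 (Fin.append F a)) (hF : RingHom.ker (j.app D).hom = Ideal.span (Set.range F))
    (hmem : ∀ l, Fin.append F a l ∈ RingHom.ker ((i ≫ j).app D).hom) :
    RegImm.IsRegularImmersionAt .regular j (i z) := by
  haveI : IsNoetherianRing Γ(X, D) := IsLocallyNoetherian.component_noetherian ⟨D, hD⟩
  obtain ⟨hjD, -⟩ := Synt29.surjective_app_of_isClosedImmersion_restrict j D hD
  obtain ⟨hijD, -⟩ := Synt29.surjective_app_of_isClosedImmersion_restrict (i ≫ j) D hD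
  let p := (hD.primeIdealOf ⟨j (i z), hx⟩).asIdeal
  let T := Localization.AtPrime p
  have hpI : RingHom.ker (j.app D).hom ≤ p := ker_app_le_primeIdealOf j hD hjD (i z) hx
  have hpJ : RingHom.ker ((i ≫ j).app D).hom ≤ p := ker_app_le_primeIdealOf (i ≫ j) hD hijD z hx
  have hjac : ∀ l, algebraMap Γ(X, D) T (Fin.append F a l) ∈ Ring.jacobson T := fun l => by
    rw [IsLocalRing.ringJacobson_eq_maximalIdeal, ← IsLocalization.AtPrime.map_eq_maximalIdeal p T]
    exact Ideal.mem_map_of_mem _ (hpJ (hmem l))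
  haveI : Module.Flat Γ(X, D) T := IsLocalization.flat _ p.primeCompl
  have hw := S5803.result T _ _ hjac (S2103.result _ (h1_flat (S := T) (f := Fin.append F a) hH))
  have e : (fun l => algebraMap Γ(X, D) T (Fin.append F a l)) =
      Fin.append (fun l => algebraMap Γ(X, D) T (F l)) (fun l => algebraMap Γ(X, D) T (a l)) := by
    funext l
    induction l using Fin.addCases <;> simp
  rw [e, List.ofFn_fin_append, RingTheory.Sequence.isWeaklyRegular_append_iff] at hw
  refine regImmAt_of_kReg .regular j (i z) hD hx (kReg_of_atPrime _ p hpI _ hw.1 ?_)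
  rw [hF, Ideal.map_span, ← Set.range_comp]
  rfl

theorem injective_stalk_restrict_map {U W : Scheme.{u}} (j : U ⟶ W) [IsOpenImmersion j] {M N : W.Modules}
    (f : M ⟶ N) (u : U) (h : Function.Injective ((DerSch.stalkFunctor W (j.base u)).map f)) :
    Function.Injective ((DerSch.stalkFunctor U u).map ((Scheme.Modules.restrictFunctor j).map f)) := by
  have e := Scheme.Modules.restrictStalkNatIso j u
  let F₀ := Scheme.Modules.restrictFunctor j ⋙ Scheme.Modules.toPresheaf U ⋙
    TopCat.Presheaf.stalkFunctor Ab.{u} u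
  have h1 : Mono ((Scheme.Modules.toPresheaf W ⋙ TopCat.Presheaf.stalkFunctor Ab.{u} (j.base u)).map f) :=
    (AddCommGrpCat.mono_iff_injective _).2 h
  have hF : Mono (F₀.map f) :=
    ((MorphismProperty.monomorphisms _).arrow_mk_iso_iff
      (((Functor.mapArrowFunctor _ _).mapIso e).app (Arrow.mk f))).2 h1
  exact (AddCommGrpCat.mono_iff_injective _).1 hF

open H23.Frame in
theorem isIso_desc_of_frame {n : ℕ} {M : Z.Modules} {U : Z.Opens} (s : Fin n → Γ(M, U)) (hs : IsFrame M s) :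
    IsIso (Sigma.desc fun i => QCoh.homOfTop (P := M.restrict U.ι)
      (M.presheaf.map (homOfLE (U.ι_image_top.le : U.ι ''ᵁ ⊤ ≤ U)).op (s i)) :
        FlatMod.freeMod (U : Scheme.{u}) n ⟶ M.restrict U.ι) := by
  set φ : FlatMod.freeMod (U : Scheme.{u}) n ⟶ M.restrict U.ι := Sigma.desc fun i => QCoh.homOfTop (P := M.restrict U.ι)
      (M.presheaf.map (homOfLE (U.ι_image_top.le : U.ι ''ᵁ ⊤ ≤ U)).op (s i)) with hφ
  refine Scheme.Modules.Hom.isIso_iff_isIso_app.mpr fun W' => ?_
  rw [ConcreteCategory.isIso_iff_bijective]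
  have hb := (incl_isFrame (X := (U : Scheme.{u})) (n := n)) W' le_top
  have hle : U.ι ''ᵁ W' ≤ U := (Scheme.Hom.image_mono U.ι le_top).trans U.ι_image_top.le
  have key : (fun x => φ.app W' x) ∘ comb (FlatMod.freeMod (U : Scheme.{u}) n)
        (fun i => (incl (U : Scheme.{u}) n i).app ⊤ (one ⊤)) W' le_top = comb M s (U.ι ''ᵁ W') hle := by
    funext c
    simp only [Function.comp, comb, map_sum]
    refine Finset.sum_congr rfl fun i _ => ?_
    refine (Scheme.Modules.Hom.app_smul φ (M := FlatMod.freeMod (U : Scheme.{u}) n) _ _).trans ?_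
    refine (restrict_smul U W' (c i) _).trans ?_
    refine congrArg (fun m : Γ(M, U.ι ''ᵁ W') => (show Γ(Z, U.ι ''ᵁ W') from c i) • m) ?_
    rw [app_one_res (incl (U : Scheme.{u}) n i) (le_top (a := W'))]
    show (incl (U : Scheme.{u}) n i ≫ φ).app W' (one W') = _
    rw [hφ, incl, Sigma.ι_desc]
    refine (QCoh.homOfTop_app _ _).trans ?_
    refine (one_smul Γ((U : Scheme.{u}), W') _).trans ?_
    show M.presheaf.map (U.ι.opensFunctor.map (homOfLE (le_top (a := W')))).op
      (M.presheaf.map (homOfLE (U.ι_image_top.le : U.ι ''ᵁ ⊤ ≤ U)).op (s i)) = _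
    rw [← ConcreteCategory.comp_apply, ← M.presheaf.map_comp]
    rfl
  exact (Function.Bijective.of_comp_iff _ hb).mp (key ▸ hs _ hle)

theorem hom_ext_one {P : Z.Modules} {f g : Coh.structureModule Z ⟶ P}
    (h : f.app ⊤ (H23.Frame.one ⊤) = g.app ⊤ (H23.Frame.one ⊤)) : f = g := by
  refine Scheme.Modules.hom_ext _ _ fun W => ?_
  ext x
  refine (H23.Frame.app_eq_smul f W x).trans (Eq.trans ?_ (H23.Frame.app_eq_smul g W x).symm)
  rw [← H23.Frame.app_one_res f (le_top (a := W)), ← H23.Frame.app_one_res g (le_top (a := W)), h]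

theorem homOfTop_one {P : Z.Modules} (t : Γ(P, ⊤)) : (QCoh.homOfTop t).app ⊤ (H23.Frame.one ⊤) = t := by
  refine (QCoh.homOfTop_app t (1 : Γ(Z, ⊤))).trans ((one_smul _ _).trans ?_)
  rw [show (homOfLE (le_top (a := (⊤ : Z.Opens)))).op = 𝟙 _ from rfl, CategoryTheory.Functor.map_id]
  rfl

variable (i : Z ⟶ Y) (j : Y ⟶ X) [IsImmersion i] [IsImmersion j] [QuasiCompact i] [QuasiCompact j]
  (a : (Scheme.Modules.pullback i).obj (Omega.conormal j) ⟶ Omega.conormal (i ≫ j))
  (ha : OmegaSh.IsConormalMap (i ≫ j) j (𝟙 X) i a)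
  (b : (Scheme.Modules.pullback (𝟙 Z)).obj (Omega.conormal (i ≫ j)) ⟶ Omega.conormal i)
  (hb : OmegaSh.IsConormalMap i (i ≫ j) j (𝟙 Z) b)

include ha hb in
/-- A regular first map splits the conormal sequence near the point. -/
theorem exists_splitting [IsLocallyNoetherian X] (z : Z) (hi : RegImm.IsRegularImmersionAt .h1 i z) :
    ∃ U : Z.Opens, z ∈ U ∧
      ∀ w : (Scheme.Modules.restrictFunctor U.ι).map a ≫ (Scheme.Modules.restrictFunctor U.ι).map
          ((Scheme.Modules.pullbackId Z).inv.app (Omega.conormal (i ≫ j)) ≫ b) = 0,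
        Nonempty (ShortComplex.mk ((Scheme.Modules.restrictFunctor U.ι).map a)
          ((Scheme.Modules.restrictFunctor U.ι).map
            ((Scheme.Modules.pullbackId Z).inv.app (Omega.conormal (i ≫ j)) ≫ b)) w).Splitting := by
  obtain ⟨V₀, hV₀, hzV₀, hci, c, g₀, hg₀, hker₀⟩ := (kindAt_iff (by decide) i z).1 hi
  obtain ⟨W, hW, hxW, -, hcW⟩ := exists_affine_isClosedImmersion_restrict j (i z) ⊤ trivial
  obtain ⟨hjW, hjs⟩ := Synt29.surjective_app_of_isClosedImmersion_restrict j W hW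
  obtain ⟨g, g', hgg, hyg⟩ := exists_basicOpen_le_affine_inter hjW hV₀ (i z) ⟨hxW, hzV₀⟩
  obtain ⟨G, rfl⟩ := hjs g
  let D := X.basicOpen G
  have hD : IsAffineOpen D := hW.basicOpen G
  obtain ⟨hqs, hV, -⟩ := app_basicOpen_props j hW hjW hjs G
  have hpre : j ⁻¹ᵁ D = Y.basicOpen g' := (Scheme.preimage_basicOpen j G).trans hgg
  have key : ∀ O : Y.Opens, O = Y.basicOpen g' → IsClosedImmersion (i ∣_ O) ∧
      ∃ g : Fin c → Γ(Y, O), SeqP .h1 g ∧ RingHom.ker (i.app O).hom = Ideal.span (Set.range g) := by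
    rintro O rfl
    exact ⟨isClosedImmersion_restrict_of_le i (Y.basicOpen_le g'), restrict_basicOpen' i g' hg₀ hker₀ hV₀⟩
  obtain ⟨hciV, gs, hgs, hkerV⟩ := key (j ⁻¹ᵁ D) hpre
  have hzV : i z ∈ j ⁻¹ᵁ D := by rw [hpre, ← hgg]; exact hyg
  obtain ⟨hg0, hgy⟩ := h1_seq i hV (List.ofFn gs) ((seq_ofFn (k := .h1) (by decide) gs).2 hgs)
    (hkerV.trans (RegImmLib.span_range_eq_ofList gs))
  let N := (List.ofFn gs).length
  let gl : Fin N → Γ(Y, j ⁻¹ᵁ D) := (List.ofFn gs).get
  -- lift the generators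
  choose Gl hGl using fun n => hqs (gl n)
  choose k hk using fun n => OmegaUniv.exists_idealSect_of_app_eq_zero i (j ⁻¹ᵁ D) (gl n) (hg0 n)
  choose k' hk' using fun n => OmegaUniv.exists_idealSect_of_app_eq_zero (i ≫ j) D (Gl n)
    ((congrArg (i.app (j ⁻¹ᵁ D)) (hGl n)).trans (hg0 n))
  let U : Z.Opens := i ⁻¹ᵁ (j ⁻¹ᵁ D)
  let α := (Scheme.Modules.pullbackId Z).inv.app (Omega.conormal (i ≫ j)) ≫ b
  have hval : ∀ n, α.app U (OmegaSh.conormalSect (i ≫ j) D (k' n)) = OmegaSh.conormalSect i (j ⁻¹ᵁ D) (k n) := by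
    intro n
    have h₁ := hb.2 D (k' n) (k n) ((hk n).trans ((hGl n).symm.trans (congrArg (j.app D) (hk' n)).symm)) U le_rfl le_rfl
    have hid : ∀ (O : Z.Opens) (h : O ≤ O) (x : Γ(Omega.conormal i, O)),
        (Omega.conormal i).presheaf.map (homOfLE h).op x = x := fun O h x => by
      rw [show (homOfLE h).op = 𝟙 _ from rfl, CategoryTheory.Functor.map_id]
      rfl
    refine (congrArg (b.app _) (PPSheaf.pullbackId_inv_app _ _ _)).trans ?_
    exact ((hid _ _ _).symm.trans h₁).trans (hid _ _ _)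
  let R := Scheme.Modules.restrictFunctor U.ι
  have hle : U.ι ''ᵁ ⊤ ≤ U := U.ι_image_top.le
  let φ₁ : FlatMod.freeMod (U : Scheme.{u}) N ⟶ R.obj (Omega.conormal i) :=
    Sigma.desc fun n => QCoh.homOfTop (P := (Omega.conormal i).restrict U.ι)
      ((Omega.conormal i).presheaf.map (homOfLE hle).op (OmegaSh.conormalSect i (j ⁻¹ᵁ D) (k n)))
  let φ₂ : FlatMod.freeMod (U : Scheme.{u}) N ⟶ R.obj (Omega.conormal (i ≫ j)) :=
    Sigma.desc fun n => QCoh.homOfTop (P := (Omega.conormal (i ≫ j)).restrict U.ι)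
      ((Omega.conormal (i ≫ j)).presheaf.map (homOfLE hle).op (OmegaSh.conormalSect (i ≫ j) D (k' n)))
  haveI : IsIso φ₁ := isIso_desc_of_frame _ (isFrame_conormalSect i hgy k hk)
  have hφ : φ₂ ≫ R.map α = φ₁ := by
    refine Sigma.hom_ext _ _ fun n => ?_
    simp only [φ₁, φ₂, Sigma.ι_desc, Sigma.ι_desc_assoc]
    refine hom_ext_one ?_
    refine (congrArg ((R.map α).app ⊤) (homOfTop_one _)).trans ((?_ : _ = _).trans (homOfTop_one _).symm)
    refine (ConcreteCategory.congr_hom (α.mapPresheaf.naturality (homOfLE hle).op) _).trans ?_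
    exact congrArg _ (hval n)
  refine ⟨U, hzV, fun w => ?_⟩
  have hmain := PPSheaf.Conormal3.main j i a ha b hb
  obtain ⟨w', hex⟩ := hmain.2
  let S := ShortComplex.mk a α w'
  have hS : (S.map R).Exact := hex.map R
  haveI : Mono (R.map a) := by
    rw [Synt29.OmegaStalk.mono_iff_stalk]
    intro y
    refine injective_stalk_restrict_map U.ι a y ?_
    exact injective_stalk_conormalMap i j a ha (U.ι y) ⟨j ⁻¹ᵁ D, N, gl, y.2, hgy _ y.2⟩
  haveI : Mono (S.map R).f := inferInstanceAs (Mono (R.map a))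
  exact ⟨ShortComplex.Splitting.ofExactOfSection _ hS (inv φ₁ ≫ φ₂)
    (by show (inv φ₁ ≫ φ₂) ≫ R.map α = 𝟙 _; rw [Category.assoc, hφ, IsIso.inv_hom_id]) inferInstance⟩

include ha hb in
/-- The three conditions for a pair of immersions. -/
theorem pair_tfae [IsLocallyNoetherian X] (z : Z) :
    ((RegImm.IsRegularImmersionAt .regular i z ∧ RegImm.IsRegularImmersionAt .regular j (i z)) ↔
      (RegImm.IsRegularImmersionAt .regular i z ∧ RegImm.IsRegularImmersionAt .regular (i ≫ j) z)) ∧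
    ((RegImm.IsRegularImmersionAt .regular i z ∧ RegImm.IsRegularImmersionAt .regular (i ≫ j) z) ↔
      (RegImm.IsRegularImmersionAt .regular (i ≫ j) z ∧
        ∃ U : Z.Opens, z ∈ U ∧
          ∀ w : (Scheme.Modules.restrictFunctor U.ι).map a ≫ (Scheme.Modules.restrictFunctor U.ι).map ((Scheme.Modules.pullbackId Z).inv.app (Omega.conormal (i ≫ j)) ≫ b) = 0,
            Nonempty (ShortComplex.mk ((Scheme.Modules.restrictFunctor U.ι).map a) ((Scheme.Modules.restrictFunctor U.ι).map ((Scheme.Modules.pullbackId Z).inv.app (Omega.conormal (i ≫ j)) ≫ b)) w).Splitting)) := by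
  haveI := isLocallyNoetherian_of_immersion j
  have h12 : RegImm.IsRegularImmersionAt .regular i z ∧ RegImm.IsRegularImmersionAt .regular j (i z) →
      RegImm.IsRegularImmersionAt .regular i z ∧ RegImm.IsRegularImmersionAt .regular (i ≫ j) z := fun ⟨hi, hj⟩ => by
    refine ⟨hi, regImmAt_of_regImmAt .koszul .regular _ z ((kindAt_iff (by decide) _ z).2 ?_)⟩
    exact KindAt.comp (Or.inl ⟨rfl, rfl⟩) j i z
      ((kindAt_iff (by decide) j _).1 (regImmAt_of_regImmAt .regular .koszul j _ hj))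
      ((kindAt_iff (by decide) i z).1 (regImmAt_of_regImmAt .regular .koszul i z hi))
  have h31 : (RegImm.IsRegularImmersionAt .regular (i ≫ j) z ∧
        ∃ U : Z.Opens, z ∈ U ∧
          ∀ w : (Scheme.Modules.restrictFunctor U.ι).map a ≫ (Scheme.Modules.restrictFunctor U.ι).map ((Scheme.Modules.pullbackId Z).inv.app (Omega.conormal (i ≫ j)) ≫ b) = 0,
            Nonempty (ShortComplex.mk ((Scheme.Modules.restrictFunctor U.ι).map a) ((Scheme.Modules.restrictFunctor U.ι).map ((Scheme.Modules.pullbackId Z).inv.app (Omega.conormal (i ≫ j)) ≫ b)) w).Splitting) →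
      RegImm.IsRegularImmersionAt .regular i z ∧ RegImm.IsRegularImmersionAt .regular j (i z) := by
    rintro ⟨hij, U, hzU, hU⟩
    have hmain := PPSheaf.Conormal3.main j i a ha b hb
    obtain ⟨w, -⟩ := hmain.2
    obtain ⟨σ⟩ := hU (by rw [← Functor.map_comp, w, Functor.map_zero])
    have hsp := splitAt_of_retraction i j a ha z U hzU σ.r σ.f_r
    obtain ⟨hiK, hD⟩ := kindAt_of_split (k := .h1) (by decide) i j (fun _ => inferInstance) z hsp
      (fun h => by cases h) (regImmAt_of_regImmAt .regular .h1 _ z hij)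
    refine ⟨regImmAt_of_regImmAt .h1 .regular i z ((kindAt_iff (by decide) i z).2 hiK), ?_⟩
    obtain ⟨D, hDa, hx, hcj, hcij, r, t, F, a', hH, hF, hmem⟩ := hD (by decide)
    exact regularAt_right i j z hDa hx F a' hH hF hmem
  have h23 : RegImm.IsRegularImmersionAt .regular i z ∧ RegImm.IsRegularImmersionAt .regular (i ≫ j) z →
      _ := fun h => And.intro h.2 (exists_splitting i j a ha b hb z (regImmAt_of_regImmAt .regular .h1 i z h.1))
  exact ⟨⟨h12, fun h => h31 (h23 h)⟩, ⟨h23, fun h => h12 (h31 h)⟩⟩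

end Groth.Agent.H6KO.SplitCancel
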