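import Groth.Agent.RegKinds.Seq
import Groth.Agent.RegKinds.CancelSeq
import Groth.Agent.LinType.QReg

/-!
# Completing part of a generating system to a sequence of the same kind
-/

set_option autoImplicit false
set_option linter.style.haveILetI false

universe u

open Groth.Agent.WiebeLib (IsExact)

namespace Groth.Agent.H6KO.SplitCancel

variable {A : Type u} [CommRing A] {n : ℕ}

theorem span_range_eq_of_det {f g : Fin n → A} (C : Matrix (Fin n) (Fin n) A) (hC : IsUnit C.det)
    (hg : ∀ i, g i = ∑ j, C i j * f j) : Ideal.span (Set.range g) = Ideal.span (Set.range f) := by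
  have hgv : g = C.mulVec f := funext hg
  refine le_antisymm (Ideal.span_le.2 ?_) (Ideal.span_le.2 ?_)
  · rintro _ ⟨i, rfl⟩
    exact Ideal.mem_span_range_iff_exists_fun.2 ⟨C i, (hg i).symm⟩
  · rintro _ ⟨i, rfl⟩
    refine Ideal.mem_span_range_iff_exists_fun.2 ⟨C⁻¹ i, ?_⟩
    show (C⁻¹.mulVec g) i = f i
    rw [hgv, Matrix.mulVec_mulVec, Matrix.nonsing_inv_mul C hC, Matrix.one_mulVec]

theorem h1_of_det {f g : Fin n → A} (hf : CAlgX.IsH1Regular f) (C : Matrix (Fin n) (Fin n) A) (hC : IsUnit C.det)
    (hg : ∀ i, g i = ∑ j, C i j * f j) : CAlgX.IsH1Regular g := by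
  classical
  intro u hu
  have hgv : g = C.mulVec f := funext hg
  have hfv : f = C⁻¹.mulVec g := by
    rw [hgv, Matrix.mulVec_mulVec, Matrix.nonsing_inv_mul C hC, Matrix.one_mulVec]
  have h1 : ∑ j, Matrix.vecMul u C j * f j = 0 := by
    change dotProduct (Matrix.vecMul u C) f = 0
    rw [← Matrix.dotProduct_mulVec, ← hgv]
    exact hu
  have h2 := hf _ h1
  let ψ : (Fin n → A) →ₗ[A] (Fin n → A) := C⁻¹.vecMulLinear
  have hψ : ψ (Matrix.vecMul u C) = u := by
    show Matrix.vecMul (Matrix.vecMul u C) C⁻¹ = u
    rw [Matrix.vecMul_vecMul, Matrix.mul_nonsing_inv C hC, Matrix.vecMul_one]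
  rw [← hψ]
  refine (Submodule.span_le.2 (?_ : _ ⊆ ((Submodule.span A _).comap ψ : Set (Fin n → A)))) h2
  rintro _ ⟨i, j, rfl⟩
  show ψ _ ∈ Submodule.span A _
  let T : Fin n → Fin n → (Fin n → A) := fun l k => Pi.single l (g k) - Pi.single k (g l)
  have e : ψ (Pi.single i (f j) - Pi.single j (f i)) = ∑ k, ∑ l, (C⁻¹ i k * C⁻¹ j l) • T k l := by
    funext m
    have hj : f j = ∑ l, C⁻¹ j l * g l := congrFun hfv j
    have hi : f i = ∑ k, C⁻¹ i k * g k := congrFun hfv i
    simp only [ψ, Matrix.coe_vecMulLinear, T, map_sub, Matrix.single_vecMul, Finset.sum_apply, Pi.smul_apply,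
      Pi.sub_apply, Pi.single_apply, smul_eq_mul, mul_sub, Finset.sum_sub_distrib, mul_ite, mul_zero,
      Matrix.row_apply]
    rw [hj, hi, Finset.sum_mul, Finset.sum_mul]
    congr 1
    · rw [Finset.sum_comm]
      refine Finset.sum_congr rfl fun l _ => ?_
      rw [Finset.sum_ite_eq, if_pos (Finset.mem_univ _)]
      ring
    · refine Finset.sum_congr rfl fun k _ => ?_
      rw [Finset.sum_ite_eq, if_pos (Finset.mem_univ _)]
      ring
  rw [e]
  exact sum_mem fun k _ => sum_mem fun l _ => Submodule.smul_mem _ _ (Submodule.subset_span ⟨k, l, rfl⟩)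

theorem seqP_of_det {k : RegImm.Kind} {f g : Fin n → A} (hf : RegKinds.SeqP k f) (C : Matrix (Fin n) (Fin n) A)
    (hC : IsUnit C.det) (hg : ∀ i, g i = ∑ j, C i j * f j) : RegKinds.SeqP k g := by
  cases k with
  | regular => exact hf.elim
  | koszul =>
    refine KRegLib.isExact_of_isUnit_det hf C⁻¹ (Matrix.isUnit_nonsing_inv_det C hC) fun i => ?_
    show f i = (C⁻¹.mulVec g) i
    rw [show g = C.mulVec f from funext hg, Matrix.mulVec_mulVec, Matrix.nonsing_inv_mul C hC, Matrix.one_mulVec]
  | h1 => exact h1_of_det hf C hC hg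
  | quasi => exact LinType.isQuasiRegular_of_span_eq f g hf (span_range_eq_of_det C hC hg)

/-- The ordering used by `appendSeq`. -/
theorem exists_equiv_appendSeq {r : ℕ} : ∀ t : ℕ, ∃ e : Fin (r + t) ≃ Fin r ⊕ Fin t,
    ∀ (B : Type u) (F : Fin r → B) (a : Fin t → B), KRegLib.appendSeq F t a = Sum.elim F a ∘ e
  | 0 => ⟨(Equiv.sumEmpty (Fin r) (Fin 0)).symm, fun _ _ _ => rfl⟩
  | t + 1 => by
    obtain ⟨e, he⟩ := exists_equiv_appendSeq (r := r) t
    refine ⟨{ toFun := Fin.cases (Sum.inr 0) fun i => Sum.map id Fin.succ (e i)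
              invFun := Sum.elim (fun i => (e.symm (Sum.inl i)).succ) (Fin.cases 0 fun j => (e.symm (Sum.inr j)).succ)
              left_inv := fun i => by
                induction i using Fin.cases with
                | zero => rfl
                | succ i => rcases h : e i with x | x <;> simp [h, ← (Equiv.eq_symm_apply e).2 h] <;> rfl
              right_inv := fun s => by
                rcases s with i | j
                · simp
                · induction j using Fin.cases <;> simp }, fun B F a => funext fun i => ?_⟩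
    induction i using Fin.cases with
    | zero => simp [KRegLib.appendSeq]
    | succ i =>
      show KRegLib.appendSeq F t (fun i => a i.succ) i = _
      rw [he]
      rcases h : e i with x | x <;> simp [h, Function.comp]

/-- Completing a family whose coefficient rows are independent at `p` by members of the generating family. -/
theorem exists_completion (p : Ideal A) [p.IsPrime] {r N : ℕ} (M : Fin r → Fin N → A)
    (hM : ∀ c : Fin r → A, (∀ j, ∑ i, c i * M i j ∈ p) → ∀ i, c i ∈ p) :
    ∃ (t : ℕ) (S : Fin t → Fin N), r + t = N ∧ ∀ e : Fin N ≃ Fin r ⊕ Fin t,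
      (Matrix.of fun i => Sum.elim M (fun a => Pi.single (S a) 1) (e i)).det ∉ p := by
  classical
  let K := p.ResidueField
  let π := algebraMap A K
  have hπ : ∀ a, π a = 0 ↔ a ∈ p := fun a => Ideal.algebraMap_residueField_eq_zero
  let v : Fin r → (Fin N → K) := fun i j => π (M i j)
  have hv : LinearIndependent K v := by
    refine (LinearIndependent.iff_fractionRing (A ⧸ p) K).1 (Fintype.linearIndependent_iff.2 fun g hg i => ?_)
    choose c hc using fun i => Ideal.Quotient.mk_surjective (g i)
    rw [← hc i, Ideal.Quotient.eq_zero_iff_mem]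
    refine hM c (fun j => (hπ _).1 ?_) i
    have := congrFun hg j
    simp only [Finset.sum_apply, Pi.smul_apply, Pi.zero_apply, ← hc, Algebra.smul_def, v, π] at this
    rw [map_sum]
    refine Eq.trans (Finset.sum_congr rfl fun x _ => ?_) this
    rw [map_mul]
    exact congrArg (· * _) (IsScalarTower.algebraMap_apply A (A ⧸ p) K (c x))
  obtain ⟨κ, a, ha, hsp, hli⟩ := exists_linearIndependent' K
    (fun j : Fin N => (Submodule.span K (Set.range v)).mkQ (Pi.single j (1 : K)))
  haveI : Finite κ := Finite.of_injective a ha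
  let t := Nat.card κ
  let eκ : Fin t ≃ κ := (Finite.equivFin κ).symm
  let S : Fin t → Fin N := a ∘ eκ
  let w : Fin r ⊕ Fin t → (Fin N → K) := Sum.elim v fun b => Pi.single (S b) 1
  have hw : LinearIndependent K w := by
    refine LinearIndependent.sumElim_of_quotient
      (f := fun i => (⟨v i, Submodule.subset_span ⟨i, rfl⟩⟩ : Submodule.span K (Set.range v)))
      ?_ (fun b => Pi.single (S b) 1) ?_
    · exact LinearIndependent.of_comp (Submodule.span K (Set.range v)).subtype hv
    · exact hli.comp eκ eκ.injective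
  have hspan : ⊤ ≤ Submodule.span K (Set.range w) := by
    rw [← (Pi.basisFun K (Fin N)).span_eq, Submodule.span_le]
    rintro _ ⟨j, rfl⟩
    have h1 : (Submodule.span K (Set.range v)).mkQ (Pi.single j (1 : K)) ∈
        Submodule.map (Submodule.span K (Set.range v)).mkQ (Submodule.span K (Set.range fun b => (Pi.single (S b) 1 : Fin N → K))) := by
      rw [Submodule.map_span, ← Set.range_comp]
      have : Set.range (fun b => (Submodule.span K (Set.range v)).mkQ (Pi.single (S b) 1 : Fin N → K)) =
          Set.range ((fun j : Fin N => (Submodule.span K (Set.range v)).mkQ (Pi.single j (1 : K))) ∘ a) := by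
        rw [← eκ.surjective.range_comp]; rfl
      rw [show (Submodule.span K (Set.range v)).mkQ ∘ (fun b => (Pi.single (S b) 1 : Fin N → K)) =
        fun b => (Submodule.span K (Set.range v)).mkQ (Pi.single (S b) 1 : Fin N → K) from rfl, this, hsp]
      exact Submodule.subset_span ⟨j, rfl⟩
    obtain ⟨y, hy, hxy⟩ := h1
    rw [Submodule.mkQ_apply, Submodule.mkQ_apply, eq_comm, Submodule.Quotient.eq] at hxy
    rw [SetLike.mem_coe, Pi.basisFun_apply, Set.Sum.elim_range, Submodule.span_union]
    rw [← sub_add_cancel (Pi.single j (1 : K)) y]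
    exact Submodule.add_mem_sup hxy hy
  have hcard : r + t = N := by
    simpa using (Module.finrank_eq_card_basis (Module.Basis.mk hw hspan)).symm
  refine ⟨t, S, hcard, fun e h => ?_⟩
  have h0 := (hπ _).2 h
  rw [RingHom.map_det] at h0
  have e1 : π.mapMatrix (Matrix.of fun i => Sum.elim M (fun a => Pi.single (S a) 1) (e i)) =
      Matrix.of (w ∘ e) := by
    ext i j
    rcases he : e i with x | x <;> simp [w, v, he, Pi.single_apply, apply_ite π]
  rw [e1] at h0
  have h1 : IsUnit (Matrix.of (w ∘ e)).det := by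
    rw [← Matrix.isUnit_iff_isUnit_det, ← Matrix.linearIndependent_rows_iff_isUnit]
    exact hw.comp e e.injective
  exact h1.ne_zero h0

end Groth.Agent.H6KO.SplitCancel
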